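import Groth.Agent.Lib.DerivedOX.AffinePushTilde
import Groth.Agent.Lib.DerivedOX.RestrictRpush
import Groth.Agent.Lib.DerivedOX.Exists
import Groth.Agent.Lib.DerivedOX.PullComp
import Groth.Agent.Lib.DerivedOX.OpenSupport
import Groth.Agent.Lib.TensorMod.TensorQCoh

/-!
# Duality along a finite extension of fields

For a finite extension `k → k'` the right adjoint of `Rg_*` on `D_QCoh` sends `O` to `O`.
-/

set_option autoImplicit false
set_option linter.style.haveILetI false
set_option linter.unusedSectionVars false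

universe u

open CategoryTheory Limits AlgebraicGeometry

attribute [local instance] HasDerivedCategory.standard
attribute [local instance] Groth.Agent.Lib.DerivedOX.Exists.hasRpush

noncomputable section

namespace Groth.Agent.Lib.FieldDual77

open Groth.Agent.Lib Groth.Agent.Lib.DerivedOX

section Affine

variable (R : CommRingCat.{u}) [PreservesFiniteLimits (tilde.functor R)]

/-- `D(R) → D_QCoh(Spec R)`. -/
def tQ : Dual.D R ⥤ DCoh.DQCoh (Spec R) :=
  ObjectProperty.lift _ (DCoh.tildeD R) (TildeEquiv.isQCohD_obj R)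

instance isEquivalence_tQ : (tQ R).IsEquivalence := by
  haveI := TildeEquiv.full R
  haveI := TildeEquiv.faithful R
  haveI : (tQ R).Full := inferInstanceAs (ObjectProperty.lift _ (DCoh.tildeD R) _).Full
  haveI : (tQ R).Faithful := inferInstanceAs (ObjectProperty.lift _ (DCoh.tildeD R) _).Faithful
  haveI : (tQ R).EssSurj := ⟨fun K => by
    obtain ⟨M, ⟨e⟩⟩ := TildeEquiv.exists_preimage R K.obj K.property
    exact ⟨M, ⟨ObjectProperty.isoMk _ e⟩⟩⟩
  exact { }

theorem nonempty_tQ_single :
    Nonempty (((tQ R).obj ((DerivedCategory.singleFunctor _ 0).obj (ModuleCat.of R R))).obj ≅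
      DCoh.inD (Spec R) (Coh.structureModule (Spec R))) := by
  let i : Coh.structureModule (Spec R) ≅ (tilde.functor R).obj (ModuleCat.of R R) :=
    (tildeSelf (R := R)).symm
  exact ⟨(Functor.mapDerivedCategorySingleFunctor (tilde.functor R) 0).app (ModuleCat.of R R) ≪≫
    (DerivedCategory.singleFunctor _ 0).mapIso i.symm⟩

variable {R} {S : CommRingCat.{u}} [PreservesFiniteLimits (tilde.functor S)] (φ : R ⟶ S)

theorem rpushPreservesQCoh : DCoh.RpushPreservesQCoh (Spec.map φ) := fun K hK i => by
  obtain ⟨M, ⟨e⟩⟩ := TildeEquiv.exists_preimage S K hK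
  exact (Groth.Agent.Lib.WayOut.Scheme.qc _).prop_of_iso
    ((DerivedCategory.homologyFunctor _ i).mapIso
      (((AffinePush.tildeD_Rpush_iso φ).app M).symm ≪≫ (DCoh.Rpush (Spec.map φ)).mapIso e))
    (TildeEquiv.isQCohD_obj R ((DRing.restrictD φ.hom).obj M) i)

/-- The two descriptions of `Rg_*`. -/
def tQRpushIso :
    tQ S ⋙ DCoh.RpushQ (Spec.map φ) (rpushPreservesQCoh φ) ≅ DRing.restrictD φ.hom ⋙ tQ R :=
  NatIso.ofComponents (fun M => ObjectProperty.isoMk _ ((AffinePush.tildeD_Rpush_iso φ).app M))
    fun g => ObjectProperty.hom_ext _ ((AffinePush.tildeD_Rpush_iso φ).hom.naturality g)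

end Affine

section Field

variable {k k' : Type u} [Field k] [Field k'] [Algebra k k'] [Module.Finite k k']

local notation "φ₀" => CommRingCat.ofHom (algebraMap k k')

theorem preservesFiniteColimits_coextend :
    PreservesFiniteColimits (ModuleCat.coextendScalars.{u, u, u} (algebraMap k k')) := by
  let F := ModuleCat.coextendScalars.{u, u, u} (algebraMap k k')
  haveI : F.Additive := (ModuleCat.restrictCoextendScalarsAdj _).right_adjoint_additive
  haveI : F.IsRightAdjoint := (ModuleCat.restrictCoextendScalarsAdj _).isRightAdjoint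
  haveI : PreservesFiniteLimits F := inferInstance
  haveI : F.PreservesEpimorphisms := ⟨fun {C D} p hp => by
    refine (ModuleCat.epi_iff_surjective _).2 fun d => ?_
    haveI : Module.Free k D := Module.Free.of_divisionRing k D
    haveI : Module.Projective k D := Module.Projective.of_free
    obtain ⟨s, hs⟩ := p.hom.exists_rightInverse_of_surjective
      (LinearMap.range_eq_top.2 ((ModuleCat.epi_iff_surjective p).1 hp))
    refine ⟨(F.map (ModuleCat.ofHom s : D ⟶ C)).hom d, ?_⟩
    have e : F.map (ModuleCat.ofHom s : D ⟶ C) ≫ F.map p = 𝟙 _ := by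
      rw [← F.map_comp, ← F.map_id]
      exact congrArg F.map (ModuleCat.hom_ext hs)
    exact congrArg (fun t => t.hom d) e⟩
  haveI : F.PreservesHomology := Functor.preservesHomology_of_preservesEpis_and_kernels _
  exact Functor.preservesFiniteColimits_of_preservesHomology _

theorem nonempty_coextend_iso :
    Nonempty ((ModuleCat.coextendScalars.{u, u, u} (algebraMap k k')).obj
      (ModuleCat.of k k) ≅ ModuleCat.of k' k') := by
  let M' := (ModuleCat.restrictScalars (algebraMap k k')).obj (ModuleCat.of k' k')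
  let V := (ModuleCat.coextendScalars.{u, u, u} (algebraMap k k')).obj (ModuleCat.of k k)
  obtain ⟨t, ht⟩ : ∃ t : Module.Dual k k', t 1 ≠ 0 := by
    obtain ⟨g, hg⟩ := LinearMap.exists_leftInverse_of_injective (LinearMap.toSpanSingleton k k' 1)
      (LinearMap.ker_eq_bot.2 (smul_left_injective k one_ne_zero))
    refine ⟨g, ?_⟩
    have := LinearMap.congr_fun hg 1
    simp at this
    simp [this]
  let L : k' →ₗ[k] Module.Dual k k' :=
    { toFun := fun a => t ∘ₗ LinearMap.mulRight k a
      map_add' := fun a b => LinearMap.ext fun x => by simp [mul_add]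
      map_smul' := fun c a => LinearMap.ext fun x => by simp }
  have hL : Function.Injective L := by
    refine (injective_iff_map_eq_zero L).2 fun a ha => ?_
    by_contra h
    exact ht (by simpa [L, inv_mul_cancel₀ h] using LinearMap.congr_fun ha a⁻¹)
  have hL' : Function.Surjective L :=
    (LinearMap.injective_iff_surjective_of_finrank_eq_finrank
      (Subspace.dual_finrank_eq (K := k) (V := k')).symm).1 hL
  let t' : M' →ₗ[k] (ModuleCat.of k k : ModuleCat.{u} k) :=
    { toFun := fun x => t x
      map_add' := t.map_add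
      map_smul' := fun c (x : k') => by
        change t (algebraMap k k' c * x) = c * t x
        rw [← Algebra.smul_def, map_smul, smul_eq_mul] }
  let t'' : V := t'
  refine ⟨(LinearEquiv.ofBijective (LinearMap.toSpanSingleton k' V t'') ?_).toModuleIso.symm⟩
  constructor
  · intro a b hab
    apply hL
    refine LinearMap.ext fun x => ?_
    exact LinearMap.congr_fun hab x
  · intro v
    let v' : M' →ₗ[k] (ModuleCat.of k k : ModuleCat.{u} k) := v
    obtain ⟨a, ha⟩ := hL'
      { toFun := fun (x : k') => v' x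
        map_add' := fun (x y : k') => v'.map_add x y
        map_smul' := fun c (x : k') => (congrArg v' (Algebra.smul_def c x)).trans (v'.map_smul c x) }
    exact ⟨a, LinearMap.ext fun x => LinearMap.congr_fun ha x⟩

/-- For a finite extension the right adjoint of `Rg_*` exists and carries `O` to `O`. -/
theorem exists_adjoint [DCoh.HasRpush (Spec.map (CommRingCat.ofHom (algebraMap k k')))] :
    ∃ (hg : DCoh.RpushPreservesQCoh (Spec.map (CommRingCat.ofHom (algebraMap k k'))))
      (b : DCoh.DQCoh (Spec (CommRingCat.of k)) ⥤ DCoh.DQCoh (Spec (CommRingCat.of k')))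
      (_ : DCoh.RpushQ (Spec.map (CommRingCat.ofHom (algebraMap k k'))) hg ⊣ b),
      ∀ O : DCoh.DQCoh (Spec (CommRingCat.of k)),
        Nonempty (O.obj ≅ DCoh.inD _ (Coh.structureModule (Spec (CommRingCat.of k)))) →
        Nonempty ((b.obj O).obj ≅ DCoh.inD _ (Coh.structureModule (Spec (CommRingCat.of k')))) := by
  haveI : PreservesFiniteLimits (tilde.functor (CommRingCat.of k)) :=
    QCoh.Tilde.tildeFunctor_preservesFiniteLimits ..
  haveI : PreservesFiniteLimits (tilde.functor (CommRingCat.of k')) :=
    QCoh.Tilde.tildeFunctor_preservesFiniteLimits ..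
  let φ := CommRingCat.ofHom (algebraMap k k')
  let C := ModuleCat.coextendScalars.{u, u, u} φ.hom
  haveI : C.Additive := (ModuleCat.restrictCoextendScalarsAdj _).right_adjoint_additive
  haveI : C.IsRightAdjoint := (ModuleCat.restrictCoextendScalarsAdj _).isRightAdjoint
  haveI : PreservesFiniteLimits C := inferInstance
  haveI : PreservesFiniteColimits C := preservesFiniteColimits_coextend (k := k) (k' := k')
  let D : DRing.restrictD φ.hom ⊣ C.mapDerivedCategory :=
    RestrictRpush.derivedAdjExact (ModuleCat.restrictCoextendScalarsAdj φ.hom)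
  haveI := isEquivalence_tQ (CommRingCat.of k)
  haveI := isEquivalence_tQ (CommRingCat.of k')
  let e' := (tQ (CommRingCat.of k')).asEquivalence
  let e := (tQ (CommRingCat.of k)).asEquivalence
  let A := (e'.symm.toAdjunction.comp D).comp e.toAdjunction
  let ι : (e'.symm.functor ⋙ DRing.restrictD φ.hom) ⋙ e.functor ≅
      DCoh.RpushQ (Spec.map φ) (rpushPreservesQCoh φ) :=
    Functor.associator _ _ _ ≪≫ Functor.isoWhiskerLeft _ (tQRpushIso φ).symm ≪≫
      (Functor.associator _ _ _).symm ≪≫ Functor.isoWhiskerRight e'.counitIso _ ≪≫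
      Functor.leftUnitor _
  refine ⟨rpushPreservesQCoh φ, _, A.ofNatIsoLeft ι, fun O ⟨eO⟩ => ?_⟩
  obtain ⟨s⟩ := nonempty_tQ_single (CommRingCat.of k)
  obtain ⟨s'⟩ := nonempty_tQ_single (CommRingCat.of k')
  obtain ⟨c⟩ := nonempty_coextend_iso (k := k) (k' := k')
  let eO' : e.inverse.obj O ≅ (DerivedCategory.singleFunctor _ 0).obj (ModuleCat.of k k) :=
    e.inverse.mapIso (ObjectProperty.isoMk _ (eO ≪≫ s.symm)) ≪≫ (e.unitIso.app _).symm
  let eC : C.mapDerivedCategory.obj (e.inverse.obj O) ≅
      (DerivedCategory.singleFunctor _ 0).obj (ModuleCat.of k' k') :=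
    C.mapDerivedCategory.mapIso eO' ≪≫ (C.mapDerivedCategorySingleFunctor 0).app _ ≪≫
      (DerivedCategory.singleFunctor _ 0).mapIso c
  exact ⟨(ObjectProperty.ι _).mapIso (e'.functor.mapIso eC) ≪≫ s'⟩

end Field

/-- A proper nonempty scheme over a field `k`, factoring through `k'`, makes `k'` finite over `k`. -/
theorem finite_of_nonempty {k k' : Type u} [Field k] [Field k'] [Algebra k k'] {X : Scheme.{u}}
    (f : X ⟶ Spec (CommRingCat.of k)) [IsProper f] (f' : X ⟶ Spec (CommRingCat.of k'))
    (h : f' ≫ Spec.map (CommRingCat.ofHom (algebraMap k k')) = f) [Nonempty X] : Module.Finite k k' := by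
  haveI : CompactSpace X := QuasiCompact.compactSpace_of_compactSpace f
  obtain ⟨x, -, hx⟩ := (isClosed_univ (X := X)).exists_closed_singleton Set.univ_nonempty
  haveI : IsFinite (X.fromSpecResidueField x ≫ f) := by
    rw [isClosed_singleton_iff_isClosedImmersion] at hx
    rw [isFinite_iff_locallyOfFiniteType_of_jacobsonSpace]
    infer_instance
  let ψ := Spec.preimage (X.fromSpecResidueField x ≫ f')
  have hψ : Spec.map (CommRingCat.ofHom (algebraMap k k') ≫ ψ) = X.fromSpecResidueField x ≫ f := by
    rw [Spec.map_comp, Spec.map_preimage, Category.assoc, h]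
  have hfin : (ψ.hom.comp (algebraMap k k')).Finite :=
    (IsFinite.SpecMap_iff (CommRingCat.ofHom (algebraMap k k') ≫ ψ)).1 (by rw [hψ]; infer_instance)
  letI := (ψ.hom.comp (algebraMap k k')).toAlgebra
  haveI : Module.Finite k (X.residueField x) := hfin
  let l : k' →ₗ[k] X.residueField x :=
    { toFun := ψ.hom
      map_add' := map_add _
      map_smul' := fun c a => by
        rw [Algebra.smul_def, map_mul]
        rfl }
  exact Module.Finite.of_injective l ψ.hom.injective

/-- On an empty scheme all objects of the derived category are zero. -/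
theorem isZero_of_isEmpty {X : Scheme.{u}} [IsEmpty X] (K : DCoh.D X) : IsZero K :=
  OpenSupport.isZero_of_restrictD (ι := PEmpty.{u + 1}) (fun i => i.elim)
    (TopologicalSpace.Opens.ext (Set.ext fun x => isEmptyElim x)) K fun i => i.elim

/-- The dualizing complex does not see the base field. -/
theorem nonempty_iso (k k' : Type u) [Field k] [Field k'] [Algebra k k'] (X : Scheme.{u})
    (f : X ⟶ Spec (CommRingCat.of k)) [IsProper f] (f' : X ⟶ Spec (CommRingCat.of k'))
    (h : f' ≫ Spec.map (CommRingCat.ofHom (algebraMap k k')) = f) [DCoh.HasRpush f]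
    (hf : DCoh.RpushPreservesQCoh f) (a : DCoh.DQCoh (Spec (CommRingCat.of k)) ⥤ DCoh.DQCoh X)
    (adj : DCoh.RpushQ f hf ⊣ a) [DCoh.HasRpush f'] (hf' : DCoh.RpushPreservesQCoh f')
    (a' : DCoh.DQCoh (Spec (CommRingCat.of k')) ⥤ DCoh.DQCoh X) (adj' : DCoh.RpushQ f' hf' ⊣ a')
    (O : DCoh.DQCoh (Spec (CommRingCat.of k)))
    (hO : Nonempty (O.obj ≅ DCoh.inD _ (Coh.structureModule (Spec (CommRingCat.of k)))))
    (O' : DCoh.DQCoh (Spec (CommRingCat.of k')))
    (hO' : Nonempty (O'.obj ≅ DCoh.inD _ (Coh.structureModule (Spec (CommRingCat.of k'))))) :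
    Nonempty ((a.obj O).obj ≅ (a'.obj O').obj) := by
  rcases isEmpty_or_nonempty X with hX | hX
  · exact ⟨(isZero_of_isEmpty _).iso (isZero_of_isEmpty _)⟩
  haveI := finite_of_nonempty f f' h
  obtain ⟨hg, b, adjg, hb⟩ := exists_adjoint (k := k) (k' := k')
  subst h
  let ι : DCoh.RpushQ f' hf' ⋙ DCoh.RpushQ _ hg ≅ DCoh.RpushQ _ hf :=
    NatIso.ofComponents
      (fun K => ObjectProperty.isoMk _
        ((PullComp.rpushCompIso f' (Spec.map (CommRingCat.ofHom (algebraMap k k')))).app K.obj))
      fun g => ObjectProperty.hom_ext _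
        ((PullComp.rpushCompIso f' (Spec.map (CommRingCat.ofHom (algebraMap k k')))).hom.naturality g.hom)
  obtain ⟨eb⟩ := hb O hO
  obtain ⟨eO'⟩ := hO'
  exact ⟨(ObjectProperty.ι _).mapIso
    ((adj.rightAdjointUniq ((adj'.comp adjg).ofNatIsoLeft ι)).app O ≪≫
      a'.mapIso (ObjectProperty.isoMk _ (eb ≪≫ eO'.symm)))⟩

end Groth.Agent.Lib.FieldDual77
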